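import Cfsg.Agent.Lib.Blocks.CyclicDefect.BlockIdem
import Cfsg.Agent.Lib.Char.Table

/-!
# The dimension of the centre of a block of the group algebra over the residue field
-/

set_option autoImplicit false
set_option linter.unusedSectionVars false
set_option linter.style.haveILetI false

namespace CfsgLib.Blocks.EqualDegree

open Cfsg CfsgLib.GrpRing
open CyclicDefect (eB)
open scoped ComplexConjugate CfsgLib.Char

variable {p : ℕ} {M : Ideal AlgInt} [M.IsPrime] {G : Type*} [Group G] [Fintype G]

/-- Local vectors with independent residues are independent. -/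
theorem indep_lift_loc {ι r : Type*} [Fintype ι] [Fintype r] (w : r → ι → ℂ)
    (hw : ∀ i j, MemLocalRing M (w i j))
    (h : LinearIndependent (ResField M) fun i j => res M (w i j)) : LinearIndependent ℂ w := by
  classical
  obtain ⟨N, hN⟩ := LinearMap.exists_leftInverse_of_injective
    (Fintype.linearCombination (ResField M) fun i j => res M (w i j))
    (LinearMap.ker_eq_bot.mpr h.fintypeLinearCombination_injective)
  choose N' hN' using fun (j : ι) (i : r) =>
    Ideal.Quotient.mk_surjective (I := locIdeal M) (N (Pi.single j 1) i)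
  let A : Matrix r r (locRing M) := Matrix.of fun i k => ∑ j, ⟨w k j, hw k j⟩ * N' j i
  have hA : A.map (Ideal.Quotient.mk (locIdeal M)) = 1 := by
    ext i k
    have h1 := congrFun (LinearMap.congr_fun hN (Pi.single k 1)) i
    rw [LinearMap.comp_apply, LinearMap.id_apply, Fintype.linearCombination_apply_single,
      one_smul] at h1
    have e : (fun j => res M (w k j)) =
        ∑ j, res M (w k j) • (Pi.single j 1 : ι → ResField M) := pi_eq_sum_univ' _
    rw [e, map_sum, Finset.sum_apply] at h1
    simp only [Matrix.map_apply, A, Matrix.of_apply, map_sum, map_mul, hN']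
    simp only [map_smul, Pi.smul_apply, smul_eq_mul] at h1
    rw [Matrix.one_apply]
    rw [Pi.single_apply] at h1
    rw [← h1]
    exact Finset.sum_congr rfl fun j _ => by rw [res_mk (hw k j)]
  have hdet : (A.map ((↑) : locRing M → ℂ)).det ≠ 0 := by
    intro h0
    have h1 : A.det = 0 := Subtype.ext (by
      show ((locRing M).subtype A.det) = _
      rw [RingHom.map_det]
      exact h0)
    have h2 := congrArg (Ideal.Quotient.mk (locIdeal M)) h1
    rw [RingHom.map_det, map_zero] at h2
    have h3 : (A.map (Ideal.Quotient.mk (locIdeal M))).det = 0 := h2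
    rw [hA, Matrix.det_one] at h3
    exact one_ne_zero h3
  rw [Fintype.linearIndependent_iff]
  intro c hc
  have hmul : (A.map ((↑) : locRing M → ℂ)).mulVec c = 0 := by
    funext i
    simp only [Matrix.mulVec, dotProduct, Matrix.map_apply, A, Matrix.of_apply,
      AddSubmonoidClass.coe_finsetSum, MulMemClass.coe_mul, Finset.sum_mul, Pi.zero_apply]
    rw [Finset.sum_comm]
    refine Finset.sum_eq_zero fun j _ => ?_
    have h := congrFun hc j
    simp only [Finset.sum_apply, Pi.smul_apply, smul_eq_mul, Pi.zero_apply] at h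
    rw [Finset.sum_congr rfl (g := fun k => ((N' j i : locRing M) : ℂ) * (c k * w k j))
      fun k _ => by ring, ← Finset.mul_sum, h, mul_zero]
  exact fun i => congrFun (Matrix.eq_zero_of_mulVec_eq_zero hdet hmul) i

variable (M) in
/-- The centre of the part of a set of characters. -/
noncomputable def ctrB (S : Set (IrrCharacter G)) : Submodule (ResField M) (KG M G) where
  carrier := {a | a ∈ fixAlg (ResField M) (Set.univ : Set G) ∧ eB M S * a = a}
  zero_mem' := ⟨zero_mem _, mul_zero _⟩
  add_mem' := fun {a b} ha hb => ⟨add_mem ha.1 hb.1, by rw [mul_add, ha.2, hb.2]⟩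
  smul_mem' := fun c a ha => ⟨Subalgebra.smul_mem _ ha.1 c, by rw [mul_smul_comm, ha.2]⟩

theorem mem_ctrB {S : Set (IrrCharacter G)} {a : KG M G} :
    a ∈ ctrB M S ↔ a ∈ fixAlg (ResField M) (Set.univ : Set G) ∧ eB M S * a = a := Iff.rfl

theorem central_comm {a : KG M G} (ha : a ∈ fixAlg (ResField M) (Set.univ : Set G)) (b : KG M G) :
    a * b = b * a :=
  commute_of_support (S := (Set.univ : Set G)) (fun g hg => absurd (Set.mem_univ g) hg) ha

theorem exists_classFunction_lift {a : KG M G} (ha : a ∈ fixAlg (ResField M) (Set.univ : Set G)) :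
    ∃ A : G → ℂ, IsClassFunction G A ∧ (∀ g, MemLocalRing M (A g)) ∧
      ∀ g, res M (A g) = a.coeff g := by
  choose sect hsect using fun x : ResField M => Ideal.Quotient.mk_surjective (I := locIdeal M) x
  exact ⟨fun g => (sect (a.coeff g) : ℂ), fun g h => by
    simp only [mem_fixAlg_iff.mp ha h (Set.mem_univ h) g], fun g => (sect _).2,
    fun g => (res_coe _).trans (hsect _)⟩

theorem res_conv {A C : G → ℂ} (hA : ∀ g, MemLocalRing M (A g)) (hC : ∀ g, MemLocalRing M (C g))
    {a c : KG M G} (ha : ∀ g, res M (A g) = a.coeff g) (hc : ∀ g, res M (C g) = c.coeff g) (g : G) :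
    res M (conv A C g) = (a * c).coeff g := by
  rw [coeff_mul_fintype, conv, res_sum _ _ fun y _ => memLocalRing_mul (hA y) (hC _)]
  exact Finset.sum_congr rfl fun y _ => by rw [res_mul (hA y) (hC _), ha, hc]

/-- At most the number of characters. -/
theorem finrank_ctrB_le {S : Set (IrrCharacter G)} (hS : IsBlockUnion M S) :
    Module.finrank (ResField M) (ctrB M S) ≤ Nat.card S := by
  classical
  have : Fintype S := Fintype.ofFinite _
  let b := Module.finBasis (ResField M) (ctrB M S)
  choose A hAc hAl hAr using fun i => exists_classFunction_lift (b i).2.1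
  have hl := fun g => memLocalRing_blockCoeff hS g
  set w : Fin (Module.finrank (ResField M) (ctrB M S)) → G → ℂ :=
    fun i => conv (blockCoeff S) (A i) with hw
  have hwr : ∀ i g, res M (w i g) = ((b i : _) : KG M G).coeff g := fun i g => by
    rw [res_conv hl (hAl i) (fun y => (CyclicDefect.coeff_eB y).symm) (hAr i) g, (b i).2.2]
  have hli : LinearIndependent ℂ w := by
    refine indep_lift_loc w (fun i g => memLocalRing_sum _ _ fun y _ =>
      memLocalRing_mul (hl y) (hAl i _)) ?_
    have : LinearIndependent (ResField M) fun i => ((b i : _) : KG M G) :=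
      b.linearIndependent.map' (Submodule.subtype _) (Submodule.ker_subtype _)
    rw [Fintype.linearIndependent_iff] at this ⊢
    refine fun c hc => this c (MonoidAlgebra.ext (Finsupp.ext fun g => ?_))
    have h := congrFun hc g
    simp only [Finset.sum_apply, Pi.smul_apply, smul_eq_mul, Pi.zero_apply, hwr] at h
    simpa [MonoidAlgebra.coeff_sum] using h
  let u : S → G → ℂ := fun χ => ofOmega (Pi.single χ.1 1)
  have hsub : Submodule.span ℂ (Set.range w) ≤ Submodule.span ℂ (Set.range u) := by
    rw [Submodule.span_le]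
    rintro _ ⟨i, rfl⟩
    have : w i = ∑ χ : S, omega (χ.1 : G → ℂ) (A i) • u χ := by
      rw [hw]
      dsimp only
      rw [← ofOmega_indVec S]
      conv_lhs => rw [← ofOmega_omega (hAc i), ← ofOmega_mul]
      simp only [u, ← ofOmega_smul]
      funext g
      simp only [ofOmega, Finset.sum_apply, ← Finset.mul_sum]
      congr 1
      rw [Finset.sum_comm]
      refine Finset.sum_congr rfl fun η _ => ?_
      rw [← Finset.sum_mul, ← Finset.sum_mul]
      congr 2
      by_cases hη : η ∈ S
      · rw [Finset.sum_eq_single ⟨η, hη⟩]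
        · simp [indVec_of_mem hη]
        · intro χ _ hne
          rw [Pi.smul_apply, Pi.single_eq_of_ne fun h => hne (Subtype.ext h.symm), smul_zero]
        · simp
      · rw [Pi.mul_apply, indVec_of_notMem hη, zero_mul]
        exact (Finset.sum_eq_zero fun χ _ => by
          rw [Pi.smul_apply, Pi.single_eq_of_ne fun h : η = χ.1 => hη (h ▸ χ.2), smul_zero]).symm
    show w i ∈ _
    rw [this]
    exact Submodule.sum_mem _ fun χ _ => Submodule.smul_mem _ _ (Submodule.subset_span ⟨χ, rfl⟩)
  have h := finrank_span_eq_card hli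
  rw [Fintype.card_fin] at h
  rw [← h, Nat.card_eq_fintype_card]
  exact (Submodule.finrank_mono hsub).trans (finrank_range_le_card _)

/-- At least the number of characters. -/
theorem card_le_finrank_ctrB {S : Set (IrrCharacter G)} (hS : IsBlockUnion M S) :
    Nat.card S ≤ Module.finrank (ResField M) (ctrB M S) := by
  classical
  have hSc : IsBlockUnion M Sᶜ := fun χ hχ ψ h hψ => hχ (hS ψ hψ χ (SameBlock.symm h))
  have hsum : eB M S + eB M Sᶜ = 1 := by
    refine MonoidAlgebra.ext (Finsupp.ext fun g => ?_)
    have h1 : blockCoeff S + blockCoeff Sᶜ = (deltaOne : G → ℂ) := by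
      rw [← ofOmega_indVec, ← ofOmega_indVec, ← ofOmega_add, ← ofOmega_one]
      congr 1
      funext χ
      by_cases h : χ ∈ S
      · simp [indVec_of_mem h, indVec_of_notMem (show χ ∉ Sᶜ from fun h' => h' h)]
      · simp [indVec_of_notMem h, indVec_of_mem (show χ ∈ Sᶜ from h)]
    rw [MonoidAlgebra.coeff_add, Finsupp.add_apply, CyclicDefect.coeff_eB, CyclicDefect.coeff_eB,
      ← res_add (memLocalRing_blockCoeff hS g) (memLocalRing_blockCoeff hSc g), ← Pi.add_apply, h1,
      deltaOne_apply, MonoidAlgebra.one_def, MonoidAlgebra.coeff_single, Finsupp.single_apply]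
    split_ifs with ha hb hb
    · exact res_one
    · exact absurd ha.symm hb
    · exact absurd hb.symm ha
    · exact res_zero
  have hid : ∀ {T : Set (IrrCharacter G)}, IsBlockUnion M T → eB M T * eB M T = eB M T :=
    fun {T} hT => MonoidAlgebra.ext (Finsupp.ext fun g => by
      rw [← res_conv (memLocalRing_blockCoeff hT) (memLocalRing_blockCoeff hT)
        (fun y => (CyclicDefect.coeff_eB y).symm) (fun y => (CyclicDefect.coeff_eB y).symm) g,
        conv_blockCoeff_self, CyclicDefect.coeff_eB])
  let F : (ConjClasses G → ResField M) →ₗ[ResField M] KG M G :=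
    { toFun := fun c => ofFun fun g => c (ConjClasses.mk g)
      map_add' := fun c c' => MonoidAlgebra.ext (Finsupp.ext fun g => by simp [coeff_ofFun])
      map_smul' := fun t c => MonoidAlgebra.ext (Finsupp.ext fun g => by simp [coeff_ofFun]) }
  have hF : Function.Injective F := fun c c' h => funext fun C => by
    obtain ⟨g, rfl⟩ := ConjClasses.mk_surjective C
    have := congrArg (fun a : KG M G => a.coeff g) h
    simpa [F, coeff_ofFun] using this
  have hsub : LinearMap.range F ≤ ctrB M S ⊔ ctrB M Sᶜ := by
    rintro _ ⟨c, rfl⟩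
    have hc : F c ∈ fixAlg (ResField M) (Set.univ : Set G) := mem_fixAlg_iff.mpr fun s _ g => by
      simp only [F, LinearMap.coe_mk, AddHom.coe_mk, coeff_ofFun]
      congr 1
      exact ConjClasses.mk_eq_mk_iff_isConj.mpr (isConj_iff.mpr ⟨s⁻¹, by group⟩)
    rw [← one_mul (F c), ← hsum, add_mul]
    exact Submodule.add_mem_sup
      ⟨mul_mem (CyclicDefect.eB_mem_fixAlg S _) hc, by rw [← mul_assoc, hid hS]⟩
      ⟨mul_mem (CyclicDefect.eB_mem_fixAlg Sᶜ _) hc, by rw [← mul_assoc, hid hSc]⟩
  have h1 := Submodule.finrank_mono hsub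
  rw [LinearMap.finrank_range_of_inj hF, Module.finrank_pi] at h1
  have h2 := Submodule.finrank_add_le_finrank_add_finrank (ctrB M S) (ctrB M Sᶜ)
  have h3 := finrank_ctrB_le (M := M) hSc
  have h4 : Nat.card (IrrCharacter G) = Fintype.card (ConjClasses G) := by
    rw [← Nat.card_eq_fintype_card]
    exact Char.card_irr_eq_card_conjClasses
  have h5 : Nat.card S + Nat.card (Sᶜ : Set (IrrCharacter G)) = Nat.card (IrrCharacter G) := by
    rw [Nat.card_coe_set_eq, Nat.card_coe_set_eq]
    exact Set.ncard_add_ncard_compl S
  omega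

theorem finrank_ctrB {S : Set (IrrCharacter G)} (hS : IsBlockUnion M S) :
    Module.finrank (ResField M) (ctrB M S) = Nat.card S :=
  le_antisymm (finrank_ctrB_le hS) (card_le_finrank_ctrB hS)

end CfsgLib.Blocks.EqualDegree
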