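import Cfsg.Agent.Lib.Blocks.EqualDegree.Symmetric
import Cfsg.Agent.Lib.Blocks.CentralDefect
import Cfsg.Agent.Lib.Blocks.FreeQuotient.Free
import Cfsg.Agent.Lib.Blocks.CyclicDefect.SectionBlock

/-!
# A block with abelian defect group and equal degrees is nilpotent

The centre of the block embeds, by the truncation at the defect group `P` followed by the block of
the maximal pair, into the span of the `u e_c` (`u ∈ P`); it has dimension `|P|` and lands in the
invariants of the inertia group, which is therefore `C(P)`.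
-/

set_option autoImplicit false
set_option linter.unusedSectionVars false
set_option linter.style.haveILetI false

namespace CfsgLib.Blocks.EqualDegree

open Cfsg CfsgLib.GrpRing
open CyclicDefect (eB)
open scoped ComplexConjugate CfsgLib.Char

variable {p : ℕ} {M : Ideal AlgInt} [M.IsPrime] {G : Type*} [Group G] [Fintype G]
  {B : Set (IrrCharacter G)} {P : Subgroup G}
  {c : Set (IrrCharacter (Subgroup.centralizer (P : Set G)))}

theorem isPRegular_eq_one_of_translate (hp : p.Prime) {x s : G} (hx : ∃ k : ℕ, orderOf x = p ^ k)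
    (hcom : Commute x s) (hs : IsPRegular p s) (hxs : IsPRegular p (x * s)) : x = 1 := by
  obtain ⟨k, hk⟩ := hx
  rcases Nat.eq_zero_or_pos k with rfl | hk0
  · exact orderOf_eq_one_iff.mp (by rw [hk, pow_zero])
  · refine absurd ?_ hxs
    rw [hcom.orderOf_mul_eq_mul_orderOf_of_coprime (hk ▸ Nat.Coprime.pow_left k
      (hp.coprime_iff_not_dvd.mpr hs)), hk]
    exact dvd_mul_of_dvd_left (dvd_pow_self p hk0.ne') _

theorem mapK_injective {H : Type*} [Group H] [Fintype H] (φ : H →* G) (hφ : Function.Injective φ) :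
    Function.Injective (CyclicDefect.mapK M φ) := fun a b h => by
  classical
  refine MonoidAlgebra.ext (Finsupp.ext fun x => ?_)
  have h1 := congrArg (fun v : KG M G => v.coeff (φ x)) h
  simp only [CyclicDefect.coeff_mapK] at h1
  have hs : (Finset.univ.filter fun y => φ y = φ x) = {x} := by
    ext y
    simp [hφ.eq_iff]
  rwa [hs, Finset.sum_singleton, Finset.sum_singleton] at h1

/-- The translates of a block idempotent by a central `p`-subgroup. -/
theorem translates (hM : IsPModular p M) {H : Type*} [Group H] [Fintype H] {b : Set (IrrCharacter H)}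
    (hb : IsPBlock M b) (Q : Subgroup H) [Fintype Q] (hQ : IsPGroup p Q) (hQc : Q ≤ Subgroup.center H)
    (hk : Nat.card b ≤ Nat.card Q) :
    LinearIndependent (ResField M) (fun u : Q => dlt (ResField M) (u : H) * eB M b) ∧
      ctrB M b ≤ Submodule.span (ResField M)
        (Set.range fun u : Q => dlt (ResField M) (u : H) * eB M b) := by
  classical
  have : Fact p.Prime := ⟨hM.1⟩
  have hQp := IsPGroup.iff_orderOf.mp hQ
  have hli : LinearIndependent (ResField M) (fun u : Q => dlt (ResField M) (u : H) * eB M b) := by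
    obtain ⟨g, hg, hsyl⟩ := exists_isDefectClass hM hb
    have hgreg := IsDefectClass.isPRegular hM hb ⟨hg, hsyl⟩
    rw [Fintype.linearIndependent_iff]
    intro t ht u₀
    have h := congrArg (fun v : KG M H => v.coeff ((u₀ : H) * g)) ht
    simp only [MonoidAlgebra.coeff_sum, Finsupp.coe_finsetSum, Finset.sum_apply,
      MonoidAlgebra.coeff_smul, Finsupp.smul_apply, smul_eq_mul, coeff_dlt_mul,
      CyclicDefect.coeff_eB] at h
    rw [Finset.sum_eq_single u₀] at h
    · rw [inv_mul_cancel_left] at h
      refine (mul_eq_zero.mp h).resolve_right fun h0 => hsyl.1 ((res_eq_zero_iff hg).mp h0)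
    · intro u _ hu
      have hx : ∃ k : ℕ, orderOf ((u : H)⁻¹ * (u₀ : H)) = p ^ k := by
        obtain ⟨k, hk⟩ := hQp (u⁻¹ * u₀)
        exact ⟨k, by rw [← hk, ← Subgroup.orderOf_coe]; rfl⟩
      have hcom : Commute ((u : H)⁻¹ * (u₀ : H)) g :=
        (Subgroup.mem_center_iff.mp (hQc (mul_mem (inv_mem u.2) u₀.2)) g).symm
      have hns : ¬ IsPRegular p ((u : H)⁻¹ * ((u₀ : H) * g)) := fun hr => hu (Subtype.ext (by
        rw [← mul_assoc] at hr
        exact inv_mul_eq_one.mp (isPRegular_eq_one_of_translate hM.1 hx hcom hgreg hr)))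
      rw [blockCoeff_eq_zero_of_not_regular hM (IsPBlock.isBlockUnion hb) hns, res_zero, mul_zero]
    · simp
  refine ⟨hli, ?_⟩
  have hmem : ∀ u : Q, dlt (ResField M) (u : H) * eB M b ∈ ctrB M b := fun u =>
    ⟨mul_mem (mem_fixAlg.mpr fun s _ => by
        rw [Commute, SemiconjBy, dlt_mul, dlt_mul, Subgroup.mem_center_iff.mp (hQc u.2) s])
      (CyclicDefect.eB_mem_fixAlg b _),
      by rw [← mul_assoc, CyclicDefect.eB_comm, mul_assoc, CyclicDefect.isIdempotentElem_eB hb]⟩
  have hsub : Submodule.span (ResField M)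
      (Set.range fun u : Q => dlt (ResField M) (u : H) * eB M b) ≤ ctrB M b := by
    rw [Submodule.span_le]
    rintro _ ⟨u, rfl⟩
    exact hmem u
  refine (Submodule.eq_of_le_of_finrank_le hsub ?_).ge
  rw [finrank_span_eq_card hli, finrank_ctrB (IsPBlock.isBlockUnion hb), ← Nat.card_eq_fintype_card]
  exact hk

theorem trunc_eB_mul_zero (hM : IsPModular p M) (hB : IsPBlock M B) (hP : IsPGroup p P)
    {b : Set (IrrCharacter (Subgroup.centralizer (P : Set G)))} (hb : IsPBlock M b)
    (hno : ¬ IsBrauerPairOf p M B P b) :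
    trunc P (eB M B) * blkK M (Subgroup.centralizer (P : Set G)) b = 0 := by
  classical
  obtain ⟨η, hη⟩ := IsPBlock.nonempty hb
  have hl := IsPBlock.memLocalRing_blockCoeff hB
  have hγl := fun z => memLocalRing_subgroupBlockCoeff (M := M) hb z
  rcases conv_subgroupBlockCoeff_congr hM hP hb (isStableFun_blockCoeff hB P)
    (conv_blockCoeff_self B) hη with ⟨h1, -⟩ | ⟨-, hc0⟩
  · exact absurd (isBrauerPairOf_of_res hB ⟨hP, hb⟩ hη h1) hno
  refine MonoidAlgebra.ext (Finsupp.ext fun g => ?_)
  rw [coeff_mul_fintype]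
  by_cases hg : g ∈ Subgroup.centralizer (P : Set G)
  · refine Eq.trans ?_ (res_eq_zero (hc0 g hg))
    rw [conv, res_sum _ _ fun y _ => memLocalRing_mul (hl y) (hγl _)]
    refine Finset.sum_congr rfl fun y _ => ?_
    rw [res_mul (hl y) (hγl _)]
    by_cases hy : y ∈ Subgroup.centralizer (P : Set G)
    · rw [coeff_trunc_of_mem _ hy, CyclicDefect.coeff_eB, blkK, coeff_ofFun]
    · have hz : y⁻¹ * g ∉ Subgroup.centralizer (P : Set G) := fun hh =>
        hy (by simpa using mul_mem hg (inv_mem hh))
      rw [coeff_blkK_of_notMem b hz, mul_zero, subgroupBlockCoeff_eq, extendByZero_eq_zero _ _ hz,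
        res_zero, mul_zero]
  · refine Finset.sum_eq_zero fun y _ => ?_
    by_cases hy : y ∈ Subgroup.centralizer (P : Set G)
    · rw [coeff_blkK_of_notMem b fun hh => hg (by simpa using mul_mem hy hh), mul_zero]
    · rw [coeff_trunc_of_notMem _ hy, zero_mul]

section Main

variable (hM : IsPModular p M) (hmax : IsMaximalBrauerPair p M B P c)
  (hab : ∀ x ∈ P, ∀ y ∈ P, x * y = y * x)
include hM hmax hab

theorem card_pair_block : Nat.card c = Nat.card P := by
  classical
  have : Fact p.Prime := ⟨hM.1⟩
  have hPC : P ≤ (Subgroup.centralizer (P : Set G)) := fun x hx y hy => hab y hy x hx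
  have hc : IsPBlock M c := hmax.1.1.2
  obtain ⟨D, hD⟩ := exists_isDefectGroup hM hc
  have hP' : IsPGroup p (P.subgroupOf (Subgroup.centralizer (P : Set G))) :=
    IsPGroup.comap_of_injective hmax.1.1.1 (Subgroup.centralizer (P : Set G)).subtype (Subgroup.centralizer (P : Set G)).subtype_injective
  have hcen : P.subgroupOf (Subgroup.centralizer (P : Set G)) ≤ Subgroup.center (Subgroup.centralizer (P : Set G)) := fun x hx => Subgroup.mem_center_iff.mpr
    fun y => Subtype.ext (y.2 x hx).symm
  have hn : (P.subgroupOf (Subgroup.centralizer (P : Set G))).Normal := ⟨fun x hx g => by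
    rw [Subgroup.mem_center_iff.mp (hcen hx) g, mul_inv_cancel_right]; exact hx⟩
  have hle : P.subgroupOf (Subgroup.centralizer (P : Set G)) ≤ D := IsDefectGroup.normal_le hM hc hD (P.subgroupOf (Subgroup.centralizer (P : Set G))) hP'
  obtain ⟨E, hE, hDE⟩ := IsInducedBlock.exists_defectGroup_le hM
    (FreeQuot.induced_of_maximal hM hmax hab) hD
  have heq : P.subgroupOf (Subgroup.centralizer (P : Set G)) = D := by
    refine Subgroup.eq_of_le_of_card_ge hle ?_
    rw [Nat.card_congr (Subgroup.subgroupOfEquivOfLe hPC).toEquiv,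
      IsDefectGroup.card_eq hM hmax.1.2.1 (isDefectGroup_of_maximal hM hmax),
      ← IsDefectGroup.card_eq hM hmax.1.2.1 hE,
      ← Subgroup.card_map_of_injective (Subgroup.centralizer (P : Set G)).subtype_injective]
    exact Subgroup.card_le_of_le hDE
  have htop : P.subgroupOf (Subgroup.centralizer (P : Set G)) ⊔ Subgroup.centralizer (P.subgroupOf (Subgroup.centralizer (P : Set G)) : Set (Subgroup.centralizer (P : Set G))) = ⊤ := by
    rw [show Subgroup.centralizer (P.subgroupOf (Subgroup.centralizer (P : Set G)) : Set (Subgroup.centralizer (P : Set G))) = ⊤ from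
      Subgroup.centralizer_eq_top_iff_subset.mpr hcen, sup_top_eq]
  obtain ⟨_, -, -, -, -, -, -, hcard⟩ :=
    central_defect_structure p M hM (P.subgroupOf (Subgroup.centralizer (P : Set G))) hP' htop c hc (heq ▸ hD)
  rw [hcard, ← Nat.card_congr (Subgroup.subgroupOfEquivOfLe hPC).toEquiv]
  refine (Nat.card_eq_of_bijective ConjClasses.mk ⟨fun a b h => ?_, ConjClasses.mk_surjective⟩).symm
  obtain ⟨t, rfl⟩ := isConj_iff.mp (ConjClasses.mk_eq_mk_iff_isConj.mp h)
  exact Subtype.ext (by
    have := Subgroup.mem_center_iff.mp (hcen a.2) (t : (Subgroup.centralizer (P : Set G)))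
    simp only [Subgroup.coe_mul, InvMemClass.coe_inv, this, mul_inv_cancel_right])

/-- **Equal degrees force a trivial inertial quotient.** -/
theorem blockT_le {f : ℕ} (hdeg : ∀ χ ∈ B, charDegree (χ : G → ℂ) = f) :
    blockT P c ≤ Subgroup.centralizer (P : Set G) := by
  classical
  have : Fact p.Prime := ⟨hM.1⟩
  have := charP_resField hM
  have hB := hmax.1.2.1
  have hPd := isDefectGroup_of_maximal hM hmax
  have hPp : IsPGroup p P := hmax.1.1.1
  have hPC : P ≤ (Subgroup.centralizer (P : Set G)) := fun x hx y hy => hab y hy x hx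
  have hc : IsPBlock M c := hmax.1.1.2
  set E := blkK M (Subgroup.centralizer (P : Set G)) c with hE
  have hcen : P.subgroupOf (Subgroup.centralizer (P : Set G)) ≤ Subgroup.center (Subgroup.centralizer (P : Set G)) := fun x hx => Subgroup.mem_center_iff.mpr
    fun y => Subtype.ext (y.2 x hx).symm
  obtain ⟨hli, hspan⟩ := translates hM hc (P.subgroupOf (Subgroup.centralizer (P : Set G)))
    (IsPGroup.comap_of_injective hPp (Subgroup.centralizer (P : Set G)).subtype (Subgroup.centralizer (P : Set G)).subtype_injective) hcen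
    (by rw [card_pair_block hM hmax hab,
      Nat.card_congr (Subgroup.subgroupOfEquivOfLe hPC).toEquiv])
  let e := (Subgroup.subgroupOfEquivOfLe hPC).toEquiv
  set v : P → KG M G := fun u => dlt (ResField M) (u : G) * E with hv
  have hmapv : ∀ u' : P.subgroupOf (Subgroup.centralizer (P : Set G)),
      CyclicDefect.mapK M (Subgroup.centralizer (P : Set G)).subtype (dlt (ResField M) (u' : (Subgroup.centralizer (P : Set G))) * eB M c) = v (e u') := fun u' => by
    rw [map_mul, CyclicDefect.mapK_eB]
    exact congrArg (· * E) (CyclicDefect.mapK_of (Subgroup.centralizer (P : Set G)).subtype (u' : (Subgroup.centralizer (P : Set G))))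
  have hvli : LinearIndependent (ResField M) v := by
    have h1 := hli.map' (CyclicDefect.mapK M (Subgroup.centralizer (P : Set G)).subtype).toLinearMap
      (LinearMap.ker_eq_bot.mpr (mapK_injective (Subgroup.centralizer (P : Set G)).subtype (Subgroup.centralizer (P : Set G)).subtype_injective))
    rw [← linearIndependent_equiv e]
    have hfun : v ∘ e = (fun u' : P.subgroupOf _ =>
        CyclicDefect.mapK M _ (dlt (ResField M) (u' : (Subgroup.centralizer (P : Set G))) * eB M c)) :=
      funext fun u' => (hmapv u').symm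
    rw [hfun]
    exact h1
  -- the image of the centre
  have himage : ∀ z : ctrB M B, trunc P (z : KG M G) * E ∈ Submodule.span (ResField M) (Set.range v) := by
    intro z
    set y := trunc P (z : KG M G) * E with hy
    have hysupp : ∀ g ∉ (Subgroup.centralizer (P : Set G)), y.coeff g = 0 := fun g hg => by
      rw [hy, coeff_mul_fintype]
      refine Finset.sum_eq_zero fun x _ => ?_
      by_cases hx : x ∈ (Subgroup.centralizer (P : Set G))
      · rw [coeff_blkK_of_notMem c fun hh => hg (by simpa using mul_mem hx hh), mul_zero]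
      · rw [coeff_trunc_of_notMem _ hx, zero_mul]
    have hyfix : y ∈ fixAlg (ResField M) ((Subgroup.centralizer (P : Set G)) : Set G) :=
      mul_mem (trunc_mem_fixAlg (fun s hs => Subgroup.centralizer_le_normalizer _ hs)
        (fixAlg_anti (Set.subset_univ _) z.2.1)) (blkK_mem_fixAlg (Subgroup.centralizer (P : Set G)) c)
    set y' : KG M (Subgroup.centralizer (P : Set G)) := ofFun fun x => y.coeff (x : G) with hy'
    have hmap : CyclicDefect.mapK M (Subgroup.centralizer (P : Set G)).subtype y' = y := by
      refine MonoidAlgebra.ext (Finsupp.ext fun g => ?_)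
      rw [CyclicDefect.coeff_mapK]
      by_cases hg : g ∈ (Subgroup.centralizer (P : Set G))
      · rw [Finset.sum_eq_single ⟨g, hg⟩, hy', coeff_ofFun]
        · exact fun x hx hne => absurd (Subtype.ext (Finset.mem_filter.mp hx).2) hne
        · exact fun h => absurd (Finset.mem_filter.mpr ⟨Finset.mem_univ (⟨g, hg⟩ : (Subgroup.centralizer (P : Set G))),
            (rfl : (Subgroup.centralizer (P : Set G)).subtype ⟨g, hg⟩ = g)⟩) h
      · rw [hysupp g hg]
        exact Finset.sum_eq_zero fun x hx => absurd ((Finset.mem_filter.mp hx).2 ▸ x.2) hg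
    have hy'mem : y' ∈ ctrB M c := by
      refine ⟨mem_fixAlg_iff.mpr fun s _ g => ?_, mapK_injective (Subgroup.centralizer (P : Set G)).subtype (Subgroup.centralizer (P : Set G)).subtype_injective ?_⟩
      · rw [hy', coeff_ofFun, coeff_ofFun]
        exact mem_fixAlg_iff.mp hyfix (s : G) s.2 (g : G)
      · rw [map_mul, hmap, CyclicDefect.mapK_eB, ← hE, hy, ← mul_assoc, hE,
          (commute_blkK_trunc P c _).eq, mul_assoc, (isIdempotentElem_blkK hc).eq]
    have h1 := Submodule.mem_map_of_mem (f := (CyclicDefect.mapK M (Subgroup.centralizer (P : Set G)).subtype).toLinearMap)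
      (hspan hy'mem)
    rw [Submodule.map_span] at h1
    change CyclicDefect.mapK M (Subgroup.centralizer (P : Set G)).subtype y' ∈ _ at h1
    rw [hmap] at h1
    refine Submodule.span_mono ?_ h1
    rintro _ ⟨_, ⟨u', rfl⟩, rfl⟩
    exact ⟨e u', (hmapv u').symm⟩
  let bv : Module.Basis P (ResField M) (Submodule.span (ResField M) (Set.range v)) :=
    Module.Basis.span hvli
  let Φ : ctrB M B →ₗ[ResField M] Submodule.span (ResField M) (Set.range v) :=
    LinearMap.codRestrict _
      (((LinearMap.mulRight (ResField M) E).comp (trunc P)).comp (ctrB M B).subtype) himage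
  have hΦ : ∀ z, ((Φ z : _) : KG M G) = trunc P (z : KG M G) * E := fun z => rfl
  have hinj : Function.Injective Φ := by
    rw [injective_iff_map_eq_zero]
    intro z hz
    have hz0 : trunc P (z : KG M G) * E = 0 := by rw [← hΦ, hz]; rfl
    refine Subtype.ext (eq_zero_of_trunc hM hB hdeg hPd z.2 ?_)
    rw [← mul_one (trunc P (z : KG M G)), ← sum_blkK (M := M) (Subgroup.centralizer (P : Set G)), Finset.mul_sum]
    refine Finset.sum_eq_zero fun b hb => ?_
    have hbB : IsPBlock M b := mem_blocks.mp hb
    by_cases hpair : IsBrauerPairOf p M B P b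
    · obtain ⟨g, hg⟩ := exists_conjPair_le_maximal hM hmax hpair
      have hgP : P.map (MulAut.conj g).toMonoidHom = P :=
        Subgroup.eq_of_le_of_card_ge (SubpairLE.le hg)
          (by rw [Subgroup.card_map_of_injective (MulAut.conj g).injective])
      have hgN : g ∈ Subgroup.normalizer (P : Set G) := by
        refine Subgroup.mem_normalizer_iff.mpr fun x => ?_
        constructor
        · intro hx; rw [← hgP]; exact ⟨x, hx, rfl⟩
        · intro hx
          rw [← hgP] at hx
          obtain ⟨w, hw, hwe⟩ := hx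
          rwa [show x = w from (MulAut.conj g).injective hwe.symm]
      rw [conjPair_of_mem_normalizer hgN] at hg
      have hPe := hmax.1.1
      have heq : conjSet g (Subgroup.centralizer (P : Set G)) (Subgroup.centralizer (P : Set G)) b = c :=
        (existsUnique_subpair hM hPe le_rfl).unique hg Relation.ReflTransGen.refl
      have hgC : g ∈ Subgroup.normalizer ((Subgroup.centralizer (P : Set G)) : Set G) := mem_normalizer_centralizer hgN
      refine (conjAlg (ResField M) g).injective ?_
      rw [map_mul, map_zero, conjAlg_trunc hgN,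
        conjAlg_eq_self (mem_fixAlg.mp z.2.1 g (Set.mem_univ g)),
        conjAlg_blkK (conj_mem_iff_of_mem_normalizer hgC), heq]
      exact hz0
    · rw [← z.2.2, trunc_mul hPp (fixAlg_anti (Set.subset_univ _) (CyclicDefect.eB_mem_fixAlg B _))
        (fixAlg_anti (Set.subset_univ _) z.2.1), mul_assoc, ← (commute_blkK_trunc P b _).eq,
        ← mul_assoc, trunc_eB_mul_zero hM hB hPp hbB hpair, zero_mul]
  have hfin : Module.finrank (ResField M) (ctrB M B) =
      Module.finrank (ResField M) (Submodule.span (ResField M) (Set.range v)) := by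
    obtain ⟨S⟩ := Decomp.nonempty_simples M G
    obtain ⟨-, -, -, -, hk, -⟩ := single_component hM hB hdeg S
    rw [finrank_ctrB (IsPBlock.isBlockUnion hB), hk, finrank_span_eq_card hvli,
      ← Nat.card_eq_fintype_card, IsDefectGroup.card_eq hM hB hPd]
  have hsurj : Function.Surjective Φ :=
    (LinearMap.injective_iff_surjective_of_finrank_eq_finrank hfin).mp hinj
  intro t ht
  refine Subgroup.mem_centralizer_iff.mpr fun u hu => ?_
  obtain ⟨htN, hst⟩ := mem_blockT.mp ht
  obtain ⟨htC, hconj⟩ := stabilizesBlock_iff.mp hst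
  obtain ⟨z, hz⟩ := hsurj (bv ⟨u, hu⟩)
  have hval : trunc P (z : KG M G) * E = v ⟨u, hu⟩ := by
    rw [← hΦ, hz]
    exact congrArg Subtype.val (Module.Basis.span_apply hvli ⟨u, hu⟩) |>.trans rfl
  have hfix : conjAlg (ResField M) t (v ⟨u, hu⟩) = v ⟨u, hu⟩ := by
    rw [← hval, map_mul, conjAlg_trunc htN,
      conjAlg_eq_self (mem_fixAlg.mp z.2.1 t (Set.mem_univ t)), hE,
      conjAlg_blkK (conj_mem_iff_of_mem_normalizer htC), hconj]
  have hconjv : conjAlg (ResField M) t (v ⟨u, hu⟩) =
      v ⟨t * u * t⁻¹, (Subgroup.mem_normalizer_iff.mp htN u).mp hu⟩ := by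
    simp only [hv]
    rw [map_mul, conjAlg_dlt, hE, conjAlg_blkK (conj_mem_iff_of_mem_normalizer htC), hconj]
  have heq := hvli.injective (hconjv.symm.trans hfix)
  exact (mul_inv_eq_iff_eq_mul.mp (congrArg Subtype.val heq)).symm

/-- **Equal degrees force nilpotency.** -/
theorem isNilpotentBlock {f : ℕ} (hdeg : ∀ χ ∈ B, charDegree (χ : G → ℂ) = f) :
    IsNilpotentBlock p M B := by
  refine ⟨hmax.1.2.1, fun Q b hQb x hx hst _ => ?_⟩
  obtain ⟨g, hg⟩ := exists_conjPair_le_maximal hM hmax hQb
  have hy := blockT_conjPair (g := g) (mem_blockT.mpr ⟨hx, hst⟩)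
  refine mem_centralizer_of_conj (g := g) ?_
  set y := g * x * g⁻¹
  have hc := carries_of_mem_blockT hg hy
  obtain ⟨y', hy', hagree⟩ := FreeQuot.exists_blockT_agree hM hmax hab hc
  refine Fusion.mem_centralizer_of_conj_eq fun z hz => ?_
  rw [hagree z hz]
  have hzP : z ∈ P := hc.le hz
  exact mul_inv_eq_iff_eq_mul.mpr (blockT_le hM hmax hab hdeg hy' z hzP).symm

end Main

end CfsgLib.Blocks.EqualDegree
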