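import Cfsg.Agent.Lib.Blocks.Decomp.Block

/-!
# A block whose characters all have one degree has one Brauer character
-/

set_option autoImplicit false
set_option linter.unusedSectionVars false
set_option linter.style.haveILetI false

namespace CfsgLib.Blocks.EqualDegree

open Cfsg CfsgLib.GrpRing CfsgLib.Blocks.Decomp
open scoped ComplexConjugate CfsgLib.Char

variable {p : ℕ} {M : Ideal AlgInt} [M.IsPrime] {G : Type*} [Group G] [Fintype G]
  {B : Set (IrrCharacter G)} {f : ℕ}

/-- All the heights are zero. -/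
theorem height_zero (hdeg : ∀ χ ∈ B, charDegree (χ : G → ℂ) = f) {χ : IrrCharacter G} (hχ : χ ∈ B) :
    blockHeight p B (χ : G → ℂ) = 0 := by
  have h : sInf ((fun ψ : IrrCharacter G => (charDegree (ψ : G → ℂ)).factorization p) '' B) =
      f.factorization p := by
    rw [show (fun ψ : IrrCharacter G => (charDegree (ψ : G → ℂ)).factorization p) '' B =
      {f.factorization p} from Set.eq_singleton_iff_unique_mem.mpr
        ⟨⟨χ, hχ, by simp only [hdeg χ hχ]⟩, by rintro _ ⟨ψ, hψ, rfl⟩; simp only [hdeg ψ hψ]⟩]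
    exact csInf_singleton _
  rw [blockHeight, h, hdeg χ hχ, Nat.sub_self]

variable (hM : IsPModular p M) (hB : IsPBlock M B) (hdeg : ∀ χ ∈ B, charDegree (χ : G → ℂ) = f)
  (S : Simples M G)
include hM hB hdeg

theorem unit_row {χ : IrrCharacter G} (hχ : χ ∈ B) : ∃ b, S.InB B b ∧ S.m b = f ∧
    ∀ c, S.decN χ c = if b = c then 1 else 0 := by
  classical
  have hf : 0 < f := hdeg χ hχ ▸ (irr_degree_eq χ).2
  have hsum := (hdeg χ hχ).symm.trans (degree_eq_inB S hM hB hχ)
  have hge : ∀ b, S.InB B b → f ≤ S.m b := fun b hb =>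
    Nat.le_of_dvd (Nat.pos_of_ne_zero (S.m_ne b).out)
      (dvd_m S hM hB hb fun ψ hψ => (hdeg ψ hψ).symm ▸ dvd_refl _)
  obtain ⟨b, hb⟩ : ∃ b, 0 < S.decN χ b := by
    by_contra hc
    push Not at hc
    rw [Finset.sum_eq_zero fun b _ => by rw [Nat.le_zero.mp (hc b), mul_zero]] at hsum
    omega
  have hbB : S.InB B b := ⟨χ, hχ, hb⟩
  have hle := Finset.single_le_sum (f := fun c => S.m c * S.decN χ c)
    (s := Finset.univ.filter fun c => S.InB B c) (fun _ _ => Nat.zero_le _)
    (Finset.mem_filter.mpr ⟨Finset.mem_univ b, hbB⟩)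
  rw [← hsum] at hle
  have hle' : S.m b * S.decN χ b ≤ f := hle
  have hmb : S.m b = f :=
    le_antisymm ((Nat.le_mul_of_pos_right _ hb).trans hle') (hge b hbB)
  have hd1 : S.decN χ b = 1 := by
    rw [hmb] at hle'
    exact le_antisymm (Nat.le_of_mul_le_mul_left (by rwa [mul_one]) hf) hb
  refine ⟨b, hbB, hmb, fun c => ?_⟩
  split_ifs with hbc
  · exact hbc ▸ hd1
  · by_contra hne
    have hcB : S.InB B c := ⟨χ, hχ, Nat.pos_of_ne_zero hne⟩
    have h := Finset.single_lt_sum (f := fun c => S.m c * S.decN χ c)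
      (s := Finset.univ.filter fun c => S.InB B c) (Ne.symm hbc)
      (Finset.mem_filter.mpr ⟨Finset.mem_univ b, hbB⟩) (Finset.mem_filter.mpr ⟨Finset.mem_univ c, hcB⟩)
      (Nat.mul_pos (Nat.pos_of_ne_zero (S.m_ne c).out) (Nat.pos_of_ne_zero hne))
      fun _ _ _ => Nat.zero_le _
    simp only [hmb, hd1, mul_one, ← hsum] at h
    exact lt_irrefl _ h

/-- **One component, `p ^ d` characters, each of which sees it once.** -/
theorem single_component : ∃ b, S.InB B b ∧ (∀ c, S.InB B c → c = b) ∧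
    (∀ χ ∈ B, S.decN χ b = 1) ∧ Nat.card B = p ^ blockDefect p B ∧ blockRank p B = 1 := by
  classical
  obtain ⟨χ₀, hχ₀⟩ := IsPBlock.nonempty hB
  have h0 := height_zero (p := p) hdeg hχ₀
  obtain ⟨b₀, hb₀, hm₀, hrow₀⟩ := unit_row hM hB hdeg S hχ₀
  set d := blockDefect p B with hd
  set a := (Nat.card G).factorization p with ha
  obtain ⟨hda, -, -, -⟩ := blockDefect_le_and_degree hM hB
  have hfac : f.factorization p = a - d := by
    rw [← hdeg χ₀ hχ₀]; exact (blockHeight_eq_zero_iff hM hB hχ₀).mp h0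
  have hint : ∀ χ, ∃ n : ℤ,
      (p : ℂ) ^ d * classInner (regPart p (χ₀ : G → ℂ)) ((χ : IrrCharacter G) : G → ℂ) = (n : ℂ) :=
    fun χ => exists_int_classInner_regPart hM χ₀ χ (by rw [hdeg χ₀ hχ₀, hfac]; omega)
  choose n hn using hint
  have hsame : ∀ {χ ψ : IrrCharacter G}, χ ∈ B → ψ ∈ B →
      (∀ c, S.decN χ c = S.decN ψ c) → n χ = n ψ := fun {χ ψ} hχ hψ h => by
    have hreg : regPart p (χ : G → ℂ) = regPart p (ψ : G → ℂ) := by
      funext g
      by_cases hg : IsPRegular p g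
      · rw [regPart_of_regular hg, regPart_of_regular hg, value_eq S hM (irr_classFunction χ) hg,
          value_eq S hM (irr_classFunction ψ) hg]
        simp only [dec_eq, h]
      · rw [regPart_of_singular hg, regPart_of_singular hg]
    refine Int.cast_injective (α := ℂ) ?_
    rw [← hn χ, ← hn ψ, classInner_regPart_comm, hreg, ← classInner_regPart_comm]
  have hkey := brauer_indep S hM (fun c => (∑ χ : IrrCharacter G with χ ∈ B, n χ * (S.decN χ c : ℤ)) -
    if b₀ = c then (p : ℤ) ^ d else 0) fun y hy => by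
    have h1 := congrFun (regPart_eq_sum hM (IsPBlock.isBlockUnion hB) hχ₀) y
    rw [regPart_of_regular hy] at h1
    simp only [Finset.sum_apply, Pi.smul_apply, smul_eq_mul] at h1
    have h2 : (χ₀ : G → ℂ) y = S.brauer b₀ y := by
      rw [value_eq S hM (irr_classFunction χ₀) hy, Finset.sum_eq_single b₀]
      · rw [dec_eq, hrow₀, if_pos rfl, Nat.cast_one, mul_one]
      · intro c _ hc
        rw [dec_eq, hrow₀, if_neg (Ne.symm hc), Nat.cast_zero, mul_zero]
      · simp
    simp only [Int.cast_sub, Int.cast_sum, Int.cast_mul, Int.cast_natCast, Int.cast_ite,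
      Int.cast_pow, Int.cast_zero, sub_mul, ite_mul, zero_mul, Finset.sum_sub_distrib,
      Finset.sum_ite_eq, Finset.mem_univ, if_true, ← hn, Finset.sum_mul]
    rw [sub_eq_zero, ← h2, h1, Finset.sum_comm, Finset.mul_sum]
    refine Finset.sum_congr rfl fun χ _ => ?_
    rw [value_eq S hM (irr_classFunction χ) hy, Finset.mul_sum, Finset.mul_sum]
    exact Finset.sum_congr rfl fun c _ => by rw [dec_eq]; ring
  have hne : ∀ χ ∈ B, n χ ≠ 0 := fun χ hχ h => by
    refine not_memLocalIdeal_omega_dualReg hM hB hχ₀ h0 hχ ?_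
    have h1 := hn χ
    rw [h, Int.cast_zero, mul_eq_zero] at h1
    rw [omega_dualReg, classInner_regPart_comm,
      h1.resolve_left (pow_ne_zero _ (Nat.cast_ne_zero.mpr hM.1.ne_zero)), mul_zero, zero_div]
    exact memLocalIdeal_zero
  have hall : ∀ χ ∈ B, ∀ c, S.decN χ c = if b₀ = c then 1 else 0 := fun χ hχ => by
    obtain ⟨b, hb, -, hrow⟩ := unit_row hM hB hdeg S hχ
    suffices h : b = b₀ from fun c => by rw [hrow, h]
    by_contra hbb
    have h1 : ∑ ψ : IrrCharacter G with ψ ∈ B, n ψ * (S.decN ψ b : ℤ) -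
        (if b₀ = b then (p : ℤ) ^ d else 0) = 0 := congrFun hkey b
    rw [if_neg (Ne.symm hbb), sub_zero] at h1
    have h2 : ∀ ψ ∈ Finset.univ.filter (fun ψ : IrrCharacter G => ψ ∈ B),
        n ψ * (S.decN ψ b : ℤ) = n χ * (S.decN ψ b : ℤ) := fun ψ hψ => by
      obtain ⟨b', -, -, hrow'⟩ := unit_row hM hB hdeg S (Finset.mem_filter.mp hψ).2
      rw [hrow']
      split_ifs with hb'
      · rw [hsame (Finset.mem_filter.mp hψ).2 hχ fun c => by rw [hrow', hrow, hb']]
      · simp
    rw [Finset.sum_congr rfl h2, ← Finset.mul_sum, mul_eq_zero] at h1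
    have h3 := h1.resolve_left (hne χ hχ)
    rw [Finset.sum_eq_zero_iff_of_nonneg fun ψ _ => Int.natCast_nonneg _] at h3
    have h4 := h3 χ (Finset.mem_filter.mpr ⟨Finset.mem_univ χ, hχ⟩)
    rw [hrow, if_pos rfl] at h4
    exact one_ne_zero (Nat.cast_eq_zero.mp h4)
  have huniq : ∀ c, S.InB B c → c = b₀ := fun c ⟨χ, hχ, hpos⟩ => by
    by_contra hc
    rw [hall χ hχ, if_neg (Ne.symm hc)] at hpos
    exact lt_irrefl _ hpos
  refine ⟨b₀, hb₀, huniq, fun χ hχ => by rw [hall χ hχ, if_pos rfl], ?_, ?_⟩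
  · have hkn : (Nat.card B : ℤ) * n χ₀ = (p : ℤ) ^ d := by
      have h1 : ∑ ψ : IrrCharacter G with ψ ∈ B, n ψ * (S.decN ψ b₀ : ℤ) -
          (if b₀ = b₀ then (p : ℤ) ^ d else 0) = 0 := congrFun hkey b₀
      rw [if_pos rfl, sub_eq_zero, Finset.sum_congr rfl (g := fun _ => n χ₀) fun ψ hψ => by
        have hψB := (Finset.mem_filter.mp hψ).2
        rw [hall ψ hψB, if_pos rfl, Nat.cast_one, mul_one]
        exact hsame hψB hχ₀ fun c => by rw [hall ψ hψB, hall χ₀ hχ₀],
        Finset.sum_const, nsmul_eq_mul] at h1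
      rw [← h1]
      congr 2
      rw [Nat.card_eq_fintype_card]
      exact Fintype.card_subtype fun χ : IrrCharacter G => χ ∈ B
    have hdvd : p ^ d ∣ Nat.card B := by
      obtain ⟨T, -, hT⟩ := sum_sq_pPart S hM hB
      rw [Finset.sum_congr rfl (g := fun _ => f ^ 2) fun χ hχ => by
        rw [hdeg χ (Finset.mem_filter.mp hχ).2], Finset.sum_const, smul_eq_mul,
        ← Fintype.card_subtype fun χ : IrrCharacter G => χ ∈ B, ← Nat.card_eq_fintype_card] at hT
      have hcop : (p ^ d).Coprime ((f / p ^ (a - d)) ^ 2) :=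
        (Nat.Coprime.pow_left _ (hM.1.coprime_iff_not_dvd.mpr
          (hfac ▸ Nat.not_dvd_ordCompl hM.1 (hdeg χ₀ hχ₀ ▸ (irr_degree_eq χ₀).2.ne')))).pow_right _
      refine hcop.dvd_of_dvd_mul_right ⟨T, ?_⟩
      have hfe : f = p ^ (a - d) * (f / p ^ (a - d)) := by
        rw [← hfac]; exact (Nat.ordProj_mul_ordCompl_eq_self f p).symm
      refine Nat.eq_of_mul_eq_mul_left (pow_pos hM.1.pos ((a - d) + (a - d))) ?_
      rw [show Nat.card B = Nat.card {χ : IrrCharacter G // χ ∈ B} from rfl]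
      rw [hfe] at hT
      calc p ^ ((a - d) + (a - d)) * (Nat.card {χ : IrrCharacter G // χ ∈ B} *
            (f / p ^ (a - d)) ^ 2) =
          Nat.card {χ : IrrCharacter G // χ ∈ B} * (p ^ (a - d) * (f / p ^ (a - d))) ^ 2 := by ring
        _ = p ^ (2 * a - d) * T := hT
        _ = p ^ ((a - d) + (a - d)) * (p ^ d * T) := by
          rw [← mul_assoc, ← pow_add]; congr 2; omega
    have hkn' : (Nat.card B : ℤ) ∣ ((p ^ d : ℕ) : ℤ) := ⟨n χ₀, by rw [hkn]; push_cast; rfl⟩
    exact Nat.dvd_antisymm (Int.natCast_dvd_natCast.mp hkn') hdvd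
  · refine le_antisymm ((blockRank_le_card_inB S hM hB).trans ?_)
      (blockRank_pos (IsPBlock.nonempty hB) hM.1.ne_one)
    rw [Nat.card_eq_fintype_card, Fintype.card_le_one_iff_subsingleton]
    exact ⟨fun x y => Subtype.ext ((huniq x.1 x.2).trans (huniq y.1 y.2).symm)⟩

end CfsgLib.Blocks.EqualDegree
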