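import Cfsg.Agent.Lib.Blocks.EqualDegree.CenterDim
import Cfsg.Agent.Lib.Blocks.EqualDegree.RankOne

/-!
# The truncation at the defect group is injective on the centre of a block with equal degrees
-/

set_option autoImplicit false
set_option linter.unusedSectionVars false
set_option linter.style.haveILetI false

namespace CfsgLib.Blocks.EqualDegree

open Cfsg CfsgLib.GrpRing CfsgLib.Blocks.Decomp
open CyclicDefect (eB)
open scoped ComplexConjugate CfsgLib.Char

variable {p : ℕ} {M : Ideal AlgInt} [M.IsPrime] {G : Type*} [Group G] [Fintype G]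
  {B : Set (IrrCharacter G)} {f : ℕ}

/-- The image of the group ring over the local ring in the complex endomorphisms. -/
noncomputable def toEnd {V : Type*} [AddCommGroup V] [Module ℂ V] (ρ : Representation ℂ G V) :
    OG M G →+* Module.End ℂ V :=
  ρ.asAlgebraHom.toRingHom.comp (MonoidAlgebra.mapRingHom (R := locRing M) (S := ℂ) G (locRing M).subtype)

theorem trace_toEnd {V : Type*} [AddCommGroup V] [Module ℂ V] (ρ : Representation ℂ G V)
    (a : OG M G) : LinearMap.trace ℂ V (toEnd ρ a) = chiSum ρ.character a := by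
  classical
  have hy : MonoidAlgebra.mapRingHom (R := locRing M) (S := ℂ) G (locRing M).subtype a =
      ∑ g, MonoidAlgebra.single g ((a.coeff g : locRing M) : ℂ) :=
    MonoidAlgebra.ext (Finsupp.ext fun g => by
      rw [MonoidAlgebra.coeff_mapRingHom, MonoidAlgebra.coeff_sum, Finsupp.coe_finsetSum,
        Finset.sum_apply, Finset.sum_eq_single g]
      · simp
      · intro b _ hb; simp [hb]
      · simp)
  rw [toEnd, RingHom.comp_apply, hy, map_sum, map_sum]
  refine Finset.sum_congr rfl fun g _ => ?_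
  show LinearMap.trace ℂ V (ρ.asAlgebraHom (MonoidAlgebra.single g _)) = _
  rw [Representation.asAlgebraHom_single, map_smul, smul_eq_mul]
  rfl

theorem sandwich_comm {V : Type*} [AddCommGroup V] [Module ℂ V] [FiniteDimensional ℂ V]
    {T : Module.End ℂ V} (hT : IsIdempotentElem T)
    (htr : LinearMap.trace ℂ V T = 0 ∨ LinearMap.trace ℂ V T = 1) (X Y : Module.End ℂ V) :
    T * X * T * (T * Y * T) = T * Y * T * (T * X * T) := by
  have hproj : LinearMap.IsProj (LinearMap.range T) T :=
    ⟨fun v => LinearMap.mem_range_self T v, fun v ⟨w, hw⟩ => by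
      rw [← hw, ← Module.End.mul_apply, hT.eq]⟩
  rw [hproj.trace] at htr
  rcases htr with h | h
  · have h0 : T = 0 := by
      rw [← LinearMap.range_eq_bot, ← Submodule.finrank_eq_zero]
      exact Nat.cast_eq_zero.mp h
    simp [h0]
  · obtain ⟨v, -, hspan⟩ := finrank_eq_one_iff'.mp (Nat.cast_eq_one.mp h)
    have key : ∀ Z : Module.End ℂ V, ∃ c : ℂ, T * Z * T = c • T := fun Z => by
      obtain ⟨c, hc⟩ := hspan ⟨(T * Z) v.1, LinearMap.mem_range_self T (Z v.1)⟩
      refine ⟨c, LinearMap.ext fun w => ?_⟩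
      obtain ⟨t, ht⟩ := hspan ⟨T w, LinearMap.mem_range_self T w⟩
      have hc' : c • v.1 = (T * Z) v.1 := congrArg Subtype.val hc
      have ht' : t • v.1 = T w := congrArg Subtype.val ht
      rw [Module.End.mul_apply, LinearMap.smul_apply, ← ht', map_smul, ← hc', smul_comm]
    obtain ⟨c, hc⟩ := key X
    obtain ⟨c', hc'⟩ := key Y
    rw [hc, hc']
    simp only [smul_mul_assoc, mul_smul_comm, smul_smul, mul_comm c]

variable (hM : IsPModular p M) (hB : IsPBlock M B) (hdeg : ∀ χ ∈ B, charDegree (χ : G → ℂ) = f)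
include hM hB hdeg

/-- A lifted primitive idempotent of the block sees each member once. -/
theorem exists_units_lift {P : Subgroup G} (hP : IsDefectGroup p M B P) :
    ∃ (U : CyclicDefect.MatUnits (ResField M) (eB M B)) (eL : OG M G), IsIdempotentElem eL ∧
      red eL = U.eps ∧ (∀ χ ∈ B, chiSum ((χ : IrrCharacter G) : G → ℂ) eL = 1) ∧
      ∀ χ : IrrCharacter G, χ ∉ B → chiSum (χ : G → ℂ) eL = 0 := by
  classical
  obtain ⟨S⟩ := nonempty_simples M G
  obtain ⟨b₀, -, huniq, hone, -, hl⟩ := single_component hM hB hdeg S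
  obtain ⟨U⟩ := CyclicDefect.nonempty_matUnits hM hB hl fun h =>
    CyclicDefect.trunc_eB_ne_zero hM hP (by rw [h, map_zero])
  obtain ⟨eL, -, hid, hred⟩ := exists_lift_idempotent' U.isPrim.idem (mem_fix_one U.eps)
  have hout : ∀ χ : IrrCharacter G, χ ∉ B → chiSum (χ : G → ℂ) eL = 0 := fun χ hχ => by
    have hid' : IsIdempotentElem (eL * blkOG hB) := by
      rw [IsIdempotentElem, mul_assoc, ← mul_assoc (blkOG hB), blkOG_comm hB eL, ← mul_assoc,
        ← mul_assoc, hid.eq, mul_assoc, (isIdempotentElem_blkOG hB).eq]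
    have hred' : red (eL * blkOG hB) = red eL := by
      rw [map_mul, red_blkOG, hred, U.toCornerSys.mul_e]
    rw [← blkTrace_one (irr_classFunction χ) hid, ← hred',
      blkTrace_one (irr_classFunction χ) hid', chiSum_mul_blkOG, if_neg hχ]
  obtain ⟨c, hc⟩ := exists_component S.π S.nil U.isPrim
  obtain ⟨hc1, hc0⟩ := prim_component S.π S.surj U.isPrim hc
  have hval : ∀ χ : IrrCharacter G, chiSum (χ : G → ℂ) eL = (S.decN χ c : ℂ) := fun χ => by
    rw [chiSum_idem_eq S (irr_classFunction χ) hid, hred, Finset.sum_eq_single c]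
    · rw [hc1, Nat.cast_one, one_mul, dec_eq]
    · intro b _ hb
      rw [rk, hc0 b hb, Matrix.rank_zero, Nat.cast_zero, zero_mul]
    · simp
  have hcb : c = b₀ := by
    obtain ⟨χ, hχ⟩ := exists_decN_pos S c
    refine huniq c ⟨χ, ?_, hχ⟩
    by_contra h
    have := hout χ h
    rw [hval, Nat.cast_eq_zero] at this
    omega
  exact ⟨U, eL, hid, hred, fun χ hχ => by rw [hval, hcb, hone χ hχ, Nat.cast_one], hout⟩

theorem corner_comm {P : Subgroup G} (hP : IsDefectGroup p M B P) :
    ∃ (U : CyclicDefect.MatUnits (ResField M) (eB M B)) (eL : OG M G), red eL = U.eps ∧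
      (∀ χ ∈ B, chiSum ((χ : IrrCharacter G) : G → ℂ) eL = 1) ∧
      (∀ χ : IrrCharacter G, χ ∉ B → chiSum (χ : G → ℂ) eL = 0) ∧
      ∀ a c : KG M G, U.eps * a * U.eps * (U.eps * c * U.eps) =
        U.eps * c * U.eps * (U.eps * a * U.eps) := by
  classical
  obtain ⟨U, eL, hid, hred, hone, hout⟩ := exists_units_lift hM hB hdeg hP
  refine ⟨U, eL, hred, hone, hout, fun a c => ?_⟩
  obtain ⟨A, -, rfl⟩ := exists_lift_fix (mem_fix_one a)
  obtain ⟨C, -, rfl⟩ := exists_lift_fix (mem_fix_one c)
  simp only [← hred, ← map_mul]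
  congr 1
  rw [← sub_eq_zero]
  set X := eL * A * eL * (eL * C * eL) - eL * C * eL * (eL * A * eL) with hX
  refine MonoidAlgebra.ext (Finsupp.ext fun g => Subtype.ext ?_)
  have hz : ∀ χ : IrrCharacter G, chiSum (χ : G → ℂ) (X * dlt (locRing M) g⁻¹) = 0 := fun χ => by
    obtain ⟨n, ρ, -, hρ⟩ := χ.2
    have htr : LinearMap.trace ℂ _ (toEnd (M := M) ρ eL) = 0 ∨
        LinearMap.trace ℂ _ (toEnd (M := M) ρ eL) = 1 := by
      rw [trace_toEnd, hρ]
      by_cases h : χ ∈ B
      exacts [Or.inr (hone χ h), Or.inl (hout χ h)]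
    have h0 : toEnd (M := M) ρ X = 0 := by
      simp only [hX, map_sub, map_mul]
      rw [sub_eq_zero]
      exact sandwich_comm (hid.map _) htr _ _
    rw [← hρ, ← trace_toEnd, map_mul, h0, zero_mul, map_zero]
  have h1 : ∑ χ : IrrCharacter G, (χ : G → ℂ) 1 * chiSum (χ : G → ℂ) (X * dlt (locRing M) g⁻¹) =
      (Nat.card G : ℂ) * ((X.coeff g : locRing M) : ℂ) := by
    simp only [chiSum_mul_dlt, Finset.mul_sum]
    rw [Finset.sum_comm, Finset.sum_eq_single g]
    · rw [Finset.sum_congr rfl (g := fun χ : IrrCharacter G => ((X.coeff g : locRing M) : ℂ) *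
        ((χ : G → ℂ) 1 * (χ : G → ℂ) (g * g⁻¹))) fun χ _ => by ring, ← Finset.mul_sum,
        Char.sum_degree_mul_irr, if_pos (mul_inv_cancel g), mul_comm]
    · intro z _ hz
      rw [Finset.sum_congr rfl (g := fun χ : IrrCharacter G => ((X.coeff z : locRing M) : ℂ) *
        ((χ : G → ℂ) 1 * (χ : G → ℂ) (z * g⁻¹))) fun χ _ => by ring, ← Finset.mul_sum,
        Char.sum_degree_mul_irr, if_neg fun h => hz (mul_inv_eq_one.mp h), mul_zero]
    · simp
  rw [Finset.sum_eq_zero fun χ _ => by rw [hz, mul_zero]] at h1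
  exact (mul_eq_zero.mp h1.symm).resolve_left (Nat.cast_ne_zero.mpr Nat.card_pos.ne')

/-- A central element of the block with coefficients zero at `C(P)` has trace zero on the lifted
idempotent. -/
theorem trace_zero {P : Subgroup G} (hP : IsDefectGroup p M B P) {eL : OG M G}
    (hone : ∀ χ ∈ B, chiSum ((χ : IrrCharacter G) : G → ℂ) eL = 1)
    (hout : ∀ χ : IrrCharacter G, χ ∉ B → chiSum (χ : G → ℂ) eL = 0)
    {z : KG M G} (hz : z ∈ fixAlg (ResField M) (Set.univ : Set G)) (h0 : trunc P z = 0) :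
    (z * red eL).coeff 1 = 0 := by
  classical
  obtain ⟨Z, hZc, hZl, hZr⟩ := exists_classFunction_lift hz
  set θ : G → ℂ := fun g => Z g⁻¹ with hθ
  have hθc : IsClassFunction G θ := fun g h => by
    simp only [hθ, mul_inv_rev, inv_inv]
    rw [← mul_assoc]
    exact hZc g⁻¹ h
  have hred : (z * red eL).coeff 1 = res M (chiSum θ eL) := by
    rw [chiSum, res_sum _ _ fun g _ => memLocalRing_mul (eL.coeff g).2 (hZl _), coeff_mul_fintype]
    refine Fintype.sum_equiv (Equiv.inv G) _ _ fun y => ?_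
    rw [Equiv.inv_apply, mul_one, res_mul (eL.coeff y⁻¹).2 (hZl _), coeff_red, mul_comm]
    simp only [inv_inv]
    rw [hZr, res_coe]
  rw [hred]
  obtain ⟨χ₁, hχ₁⟩ := IsPBlock.nonempty hB
  obtain ⟨S⟩ := nonempty_simples M G
  obtain ⟨b₀, -, huniq, hone', hk, -⟩ := single_component hM hB hdeg S
  set a := (Nat.card G).factorization p with ha
  set d := blockDefect p B with hd
  obtain ⟨hda, -, -, -⟩ := blockDefect_le_and_degree hM hB
  have hfac : f.factorization p = a - d := by
    rw [← hdeg χ₁ hχ₁]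
    exact (blockHeight_eq_zero_iff hM hB hχ₁).mp (height_zero hdeg hχ₁)
  have hf : f ≠ 0 := hdeg χ₁ hχ₁ ▸ (irr_degree_eq χ₁).2.ne'
  have hconst : ∀ χ ∈ B, ∀ g, IsPRegular p g → (χ : G → ℂ) g = (χ₁ : G → ℂ) g := fun χ hχ g hg => by
    rw [value_eq S hM (irr_classFunction χ) hg, value_eq S hM (irr_classFunction χ₁) hg]
    refine Finset.sum_congr rfl fun b _ => ?_
    rw [dec_eq, dec_eq]
    by_cases hb : S.InB B b
    · rw [huniq b hb, hone' χ hχ, hone' χ₁ hχ₁]
    · rw [Nat.eq_zero_of_not_pos fun h => hb ⟨χ, hχ, h⟩, Nat.eq_zero_of_not_pos fun h => hb ⟨χ₁, hχ₁, h⟩]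
  have hS : ∀ g, ∑ χ : IrrCharacter G with χ ∈ B, conj ((χ : G → ℂ) g) =
      if IsPRegular p g then (p : ℂ) ^ d * conj ((χ₁ : G → ℂ) g) else 0 := fun g => by
    split_ifs with hg
    · rw [Finset.sum_congr rfl fun χ hχ => by rw [hconst χ (Finset.mem_filter.mp hχ).2 g hg],
        Finset.sum_const, nsmul_eq_mul, ← Fintype.card_subtype, ← Nat.card_eq_fintype_card]
      congr 1
      rw [show Nat.card {χ : IrrCharacter G // χ ∈ B} = p ^ d from hk, Nat.cast_pow]
    · have h := blockCoeff_eq_zero_of_not_regular hM (IsPBlock.isBlockUnion hB) hg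
      rw [blockCoeff, sum_mem_eq_filter, mul_eq_zero] at h
      have h' := h.resolve_left (inv_ne_zero (Nat.cast_ne_zero.mpr Nat.card_pos.ne'))
      rw [Finset.sum_congr rfl (g := fun χ : IrrCharacter G => (f : ℂ) * conj ((χ : G → ℂ) g))
        fun χ hχ => by rw [(irr_degree_eq χ).1, hdeg χ (Finset.mem_filter.mp hχ).2],
        ← Finset.mul_sum] at h'
      exact (mul_eq_zero.mp h').resolve_left (Nat.cast_ne_zero.mpr hf)
  set F : G → ℂ := regPart p Z with hF
  have hFc : IsClassFunction G F := isClassFunction_regPart hZc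
  have hval : chiSum θ eL = ((p : ℂ) ^ d * (f : ℂ) / (Nat.card G : ℂ)) * omega (χ₁ : G → ℂ) F := by
    have hexp : θ = fun g => ∑ χ : IrrCharacter G, classInner θ (χ : G → ℂ) * (χ : G → ℂ) g := by
      funext g
      conv_lhs => rw [Char.classFunction_expansion hθc]
      simp [Finset.sum_apply]
    conv_lhs => rw [hexp, chiSum_sum_fun]
    rw [Finset.sum_congr rfl (g := fun χ : IrrCharacter G => if χ ∈ B then classInner θ (χ : G → ℂ) else 0)
      fun χ _ => by
        split_ifs with h
        · rw [hone χ h, mul_one]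
        · rw [hout χ h, mul_zero],
      ← Finset.sum_filter]
    simp only [classInner, ← Finset.mul_sum]
    rw [Finset.sum_comm]
    simp only [← Finset.mul_sum, hS]
    rw [omega, (irr_degree_eq χ₁).1, hdeg χ₁ hχ₁]
    have hG : (Nat.card G : ℂ) ≠ 0 := Nat.cast_ne_zero.mpr Nat.card_pos.ne'
    rw [show ∑ g, F g * (χ₁ : G → ℂ) g =
        ∑ g, θ g * (if IsPRegular p g then conj ((χ₁ : G → ℂ) g) else 0) from
      Fintype.sum_equiv (Equiv.inv G) _ _ fun g => by
        rw [Equiv.inv_apply, hθ, hF]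
        simp only [inv_inv]
        by_cases hg : IsPRegular p g
        · rw [regPart_of_regular hg, if_pos (IsPRegular.inv hg), irr_value_inv χ₁.2,
            Complex.conj_conj]
        · rw [regPart_of_singular hg, if_neg fun h => hg (inv_inv g ▸ IsPRegular.inv h)]
          simp]
    have hf' : (f : ℂ) ≠ 0 := Nat.cast_ne_zero.mpr hf
    rw [Finset.sum_congr rfl (g := fun g => (p : ℂ) ^ d *
      (θ g * (if IsPRegular p g then conj ((χ₁ : G → ℂ) g) else 0))) fun g _ => by
        split_ifs <;> ring, ← Finset.mul_sum]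
    field_simp
  have hFl : ∀ g, MemLocalRing M (F g) := fun g => by
    by_cases hg : IsPRegular p g
    · rw [hF, regPart_of_regular hg]; exact hZl g
    · rw [hF, regPart_of_singular hg]; exact memLocalRing_zero
  have hom : MemLocalIdeal M (omega (χ₁ : G → ℂ) F) := by
    haveI : Fintype (ConjClasses G) := Fintype.ofFinite _
    rw [omega_eq_sum_classes χ₁ hFc]
    refine memLocalIdeal_sum _ _ fun c _ => ?_
    set g := Quotient.out c
    by_cases hω : MemLocalIdeal M (centralChar (χ₁ : G → ℂ) g)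
    · exact memLocalIdeal_mul_left (hFl g) hω
    · refine memLocalIdeal_mul_right ?_ (memLocalRing_centralChar χ₁ g)
      obtain ⟨y, hgy, hy⟩ := IsDefectGroup.exists_isConj_centralizing hM hB hP hχ₁ hω
      by_cases hg : IsPRegular p g
      · rw [hF, regPart_of_regular hg, IsClassFunction.eq_of_isConj hZc hgy,
          ← res_eq_zero_iff (hZl y), hZr]
        have hyC : y ∈ Subgroup.centralizer (P : Set G) := Subgroup.mem_centralizer_iff.mpr
          fun x hx => Subgroup.mem_centralizer_singleton_iff.mp (hy hx)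
        rw [← coeff_trunc_of_mem z hyC, h0]
        rfl
      · rw [hF, regPart_of_singular hg]; exact memLocalIdeal_zero
  refine res_eq_zero ?_
  rw [hval]
  refine memLocalIdeal_mul_left ?_ hom
  obtain ⟨m', hm'⟩ := Nat.ordProj_dvd (Nat.card G) p
  have hm'p : ¬ p ∣ m' := fun h =>
    Nat.pow_succ_factorization_not_dvd (n := Nat.card G) Nat.card_pos.ne' hM.1
      (by rw [pow_succ]; exact (mul_dvd_mul_left _ h).trans (dvd_of_eq hm'.symm))
  have hpp : (p : ℂ) ≠ 0 := Nat.cast_ne_zero.mpr hM.1.ne_zero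
  have : (p : ℂ) ^ d * (f : ℂ) / (Nat.card G : ℂ) = ((f / p ^ (a - d) : ℕ) : ℂ) * (m' : ℂ)⁻¹ := by
    have hfe : (f : ℂ) = (p : ℂ) ^ (a - d) * ((f / p ^ (a - d) : ℕ) : ℂ) := by
      rw [← Nat.cast_pow, ← Nat.cast_mul, ← hfac, Nat.ordProj_mul_ordCompl_eq_self]
    have hcard : (Nat.card G : ℂ) = (p : ℂ) ^ a * (m' : ℂ) :=
      (congrArg (Nat.cast : ℕ → ℂ) hm').trans (by push_cast; rfl)
    have hpa : (p : ℂ) ^ a = (p : ℂ) ^ (a - d) * (p : ℂ) ^ d := by
      rw [← pow_add, Nat.sub_add_cancel hda]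
    rw [hfe, hcard, hpa]
    have hm0 : (m' : ℂ) ≠ 0 := Nat.cast_ne_zero.mpr fun h => hm'p (h ▸ dvd_zero p)
    field_simp
  rw [this]
  exact memLocalRing_mul (memLocalRing_natCast _) (memLocalRing_natCast_inv hM hm'p)

/-- **The truncation is injective on the centre of the block.** -/
theorem eq_zero_of_trunc {P : Subgroup G} (hP : IsDefectGroup p M B P) {z : KG M G}
    (hz : z ∈ ctrB M B) (h0 : trunc P z = 0) : z = 0 := by
  classical
  have := charP_resField hM
  have : Fact p.Prime := ⟨hM.1⟩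
  obtain ⟨U, eL, hred, hone, hout, hcomm⟩ := corner_comm hM hB hdeg hP
  obtain ⟨hzc, hze⟩ := hz
  have hC : ∀ b, z * b = b * z := central_comm hzc
  by_contra hne
  obtain ⟨g, hg⟩ : ∃ g, z.coeff g ≠ 0 := by
    by_contra hc
    push Not at hc
    exact hne (MonoidAlgebra.ext (Finsupp.ext fun g => hc g))
  set a : KG M G := dlt (ResField M) g⁻¹
  have h1 : (z * a).coeff 1 = z.coeff g := by
    show (z * dlt (ResField M) g⁻¹).coeff 1 = _
    rw [coeff_mul_dlt, inv_inv, one_mul]
  have hza : z * a = z * (eB M B * a * eB M B) := by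
    calc z * a = eB M B * z * a := by rw [hze]
      _ = eB M B * eB M B * z * a := by rw [CyclicDefect.isIdempotentElem_eB hB]
      _ = z * (eB M B * eB M B) * a := by rw [hC]
      _ = z * (eB M B * a * eB M B) := by
        rw [mul_assoc, mul_assoc (eB M B) a, ← CyclicDefect.eB_comm B a, mul_assoc]
  have hterm : ∀ i j, (z * (U.E i 0 * U.coord a i j * U.E 0 j)).coeff 1 =
      if i = j then (z * U.coord a i i).coeff 1 else 0 := fun i j => by
    rw [← mul_assoc, BlockTwo.coeff_mul_one_comm, ← mul_assoc, ← mul_assoc, ← hC (U.E 0 j),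
      mul_assoc z, U.mul]
    by_cases h : i = j
    · subst h
      rw [if_pos rfl, if_pos rfl, mul_assoc, (U.toCornerSys.eps_coord a i i).1]
    · rw [if_neg (fun hh => h hh.symm), if_neg h, mul_zero, zero_mul]
      rfl
  have hsum : (z * a).coeff 1 = ∑ i, (z * U.coord a i i).coeff 1 := by
    rw [hza, U.toCornerSys.reconstruct]
    simp only [Finset.mul_sum, MonoidAlgebra.coeff_sum, Finsupp.coe_finsetSum, Finset.sum_apply,
      hterm, Finset.sum_ite_eq, Finset.mem_univ, if_true]
  obtain ⟨i, -, hi⟩ := Finset.exists_ne_zero_of_sum_ne_zero (hsum ▸ h1.symm ▸ hg)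
  set c := U.coord a i i with hc
  obtain ⟨hc1, hc2⟩ := U.toCornerSys.eps_coord a i i
  set w : KG M G := ∑ l, U.E l 0 * c * U.E 0 l with hw
  have hwe : w * eB M B = w := by
    rw [hw, Finset.sum_mul]
    exact Finset.sum_congr rfl fun l _ => by rw [mul_assoc, U.toCornerSys.mul_e]
  have hew : eB M B * w = w := (CyclicDefect.eB_comm B w).trans hwe
  have hwb : ∀ b : KG M G, w * b = b * w := fun b => by
    have hb : ∀ s t, c * U.coord b s t = U.coord b s t * c := fun s t => by
      have := hcomm c (U.coord b s t)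
      rw [hc1, hc2, (U.toCornerSys.eps_coord b s t).1, (U.toCornerSys.eps_coord b s t).2] at this
      exact this
    calc w * b = w * eB M B * eB M B * b := by rw [hwe, hwe]
      _ = w * (eB M B * b * eB M B) := by
        rw [mul_assoc, mul_assoc, mul_assoc (eB M B) b, ← CyclicDefect.eB_comm B b]
      _ = ∑ s, ∑ t, U.E s 0 * (c * U.coord b s t) * U.E 0 t := by
        rw [U.toCornerSys.reconstruct, Finset.mul_sum]
        refine Finset.sum_congr rfl fun s _ => ?_
        rw [Finset.mul_sum]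
        refine Finset.sum_congr rfl fun t _ => ?_
        rw [hw, Finset.sum_mul, Finset.sum_eq_single s]
        · simp only [← mul_assoc]
          rw [mul_assoc (U.E s 0 * c) (U.E 0 s), U.mul, if_pos rfl,
            mul_assoc (U.E s 0) c, hc2]
        · intro l _ hl
          simp only [← mul_assoc]
          rw [mul_assoc (U.E l 0 * c) (U.E 0 l), U.mul, if_neg hl]
          simp
        · simp
      _ = ∑ s, ∑ t, U.E s 0 * (U.coord b s t * c) * U.E 0 t := by simp only [hb]
      _ = (eB M B * b * eB M B) * w := by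
        rw [U.toCornerSys.reconstruct, Finset.sum_mul]
        refine Finset.sum_congr rfl fun s _ => ?_
        rw [Finset.sum_mul]
        refine Finset.sum_congr rfl fun t _ => ?_
        rw [hw, Finset.mul_sum, Finset.sum_eq_single t]
        · simp only [← mul_assoc]
          rw [mul_assoc (U.E s 0 * U.coord b s t) (U.E 0 t), U.mul, if_pos rfl,
            mul_assoc (U.E s 0) (U.coord b s t) (U.E 0 0), (U.toCornerSys.eps_coord b s t).2]
        · intro l _ hl
          simp only [← mul_assoc]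
          rw [mul_assoc (U.E s 0 * U.coord b s t) (U.E 0 t), U.mul, if_neg (Ne.symm hl)]
          simp
        · simp
      _ = b * w := by rw [CyclicDefect.eB_comm B b, mul_assoc, mul_assoc, hew, hew]
  have hwf : w ∈ fixAlg (ResField M) (Set.univ : Set G) :=
    mem_fixAlg.mpr fun s _ => (hwb (dlt (ResField M) s)).symm
  have hweps : w * U.eps = c := by
    rw [hw, Finset.sum_mul, Finset.sum_eq_single 0]
    · show U.eps * c * U.eps * U.eps = c
      rw [hc1, hc2, hc2]
    · intro l _ hl
      show U.E l 0 * c * U.E 0 l * U.E 0 0 = 0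
      rw [mul_assoc, U.mul, if_neg hl, mul_zero]
    · simp
  have hU : IsPGroup p P := IsDefectGroup.isPGroup hM hP
  have htr : trunc P (z * w) = 0 := by
    rw [trunc_mul hU (fixAlg_anti (Set.subset_univ _) hzc) (fixAlg_anti (Set.subset_univ _) hwf), h0,
      zero_mul]
  have := trace_zero hM hB hdeg hP hone hout (mul_mem hzc hwf) htr
  rw [hred, mul_assoc, hweps] at this
  exact hi this

end CfsgLib.Blocks.EqualDegree
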